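import Groth.Agent.Lib.VA.Tensor
import Groth.Agent.Lib.AffHom.Basic

/-!
# Tensoring with a generator of an invertible module, on sections; powers of a generator
-/

set_option autoImplicit false
set_option backward.isDefEq.respectTransparency false
set_option linter.all false

universe u

open CategoryTheory CategoryTheory.Limits AlgebraicGeometry TopologicalSpace Opposite
open GrothLib.InvExt (mres fres IsGen mres_smul mres_mres fres_fres)
open GrothLib.VA (tm tm_smul_left tm_smul_right tm_add_left mres_tm isGen_tm)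
open scoped TensorProduct

noncomputable section

namespace GrothLib.TensorGen

variable {X : Scheme.{u}} (E L : X.Modules)

/-- On stalks, tensoring with a generator is bijective. -/
theorem bijective_tmulStalk {x : X} {t : L.presheaf.stalk x} (ht : Ref1.Gen L x t) :
    Function.Bijective fun v : E.presheaf.stalk x => Ref1.tmulStalk E L x v t := by
  let R := X.presheaf.stalk x
  let ψ : R ≃ₗ[R] L.presheaf.stalk x := LinearEquiv.ofBijective (LinearMap.toSpanSingleton R _ t) ht
  let e : E.presheaf.stalk x ≃ₗ[R] (CohB1.tensorMod E L).presheaf.stalk x :=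
    (TensorProduct.rid R (E.presheaf.stalk x)).symm ≪≫ₗ
      TensorProduct.congr (LinearEquiv.refl R (E.presheaf.stalk x)) ψ ≪≫ₗ (Ref1.tensorStalk E L x).symm
  have he : ∀ v, e v = Ref1.tmulStalk E L x v t := fun v => by
    refine ((Ref1.tensorStalk E L x).symm_apply_eq).2 ?_
    rw [Ref1.tensorStalk_tmulStalk]
    change TensorProduct.congr _ ψ (v ⊗ₜ[R] (1 : R)) = _
    rw [TensorProduct.congr_tmul]
    change v ⊗ₜ[R] ((1 : R) • t) = _
    rw [one_smul]
  have hb := e.bijective
  rw [show (⇑e : E.presheaf.stalk x → _) = fun v => Ref1.tmulStalk E L x v t from funext he] at hb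
  exact hb

theorem injective_tm {V : X.Opens} {l : Γ(L, V)} (hl : IsGen L V l) {a b : Γ(E, V)} (h : tm a l = tm b l) :
    a = b := by
  refine TopCat.Presheaf.section_ext ⟨E.presheaf, E.isSheaf⟩ V a b fun x hx => ?_
  refine (bijective_tmulStalk E L (Ref1.gen_of_isGen hl hx)).1 ?_
  show Ref1.tmulStalk E L x (E.presheaf.germ V x hx a) _ = Ref1.tmulStalk E L x (E.presheaf.germ V x hx b) _
  rw [← Ref1.germ_tmul, ← Ref1.germ_tmul]
  exact congrArg _ h

/-- Tensoring with a generator over an open is bijective on sections. -/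
theorem bijective_tm {V : X.Opens} {l : Γ(L, V)} (hl : IsGen L V l) :
    Function.Bijective fun a : Γ(E, V) => tm a l := by
  refine ⟨fun a b => injective_tm E L hl, fun t => ?_⟩
  have hloc : ∀ x : V, ∃ (W : X.Opens) (_ : x.1 ∈ W) (h : W ≤ V) (m : Γ(E, W)),
      tm m (mres L h l) = mres (CohB1.tensorMod E L) h t := by
    intro ⟨x, hx⟩
    obtain ⟨v, hv⟩ := (bijective_tmulStalk E L (Ref1.gen_of_isGen hl hx)).2
      ((CohB1.tensorMod E L).presheaf.germ V x hx t)
    obtain ⟨W, hW, m, rfl⟩ := TopCat.Presheaf.exists_germ_eq E.presheaf v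
    let I : X.Opens := W ⊓ V
    have hI : x ∈ I := ⟨hW, hx⟩
    have hgm : (CohB1.tensorMod E L).presheaf.germ I x hI (tm (mres E inf_le_left m) (mres L inf_le_right l)) =
        (CohB1.tensorMod E L).presheaf.germ I x hI (mres (CohB1.tensorMod E L) inf_le_right t) := by
      rw [Ref1.germ_tmul, TopCat.Presheaf.germ_res_apply, TopCat.Presheaf.germ_res_apply,
        TopCat.Presheaf.germ_res_apply]
      exact hv
    obtain ⟨T, hxT, i₁, i₂, hT⟩ :=
      TopCat.Presheaf.germ_eq (CohB1.tensorMod E L).presheaf x hI hI _ _ hgm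
    refine ⟨T, hxT, i₁.le.trans inf_le_right, mres E (i₁.le.trans inf_le_left) m, ?_⟩
    have h1 : mres (CohB1.tensorMod E L) i₁.le (tm (mres E inf_le_left m) (mres L inf_le_right l)) =
        mres (CohB1.tensorMod E L) i₁.le (mres (CohB1.tensorMod E L) inf_le_right t) := hT
    rw [mres_tm, mres_mres, mres_mres, mres_mres] at h1
    exact h1
  choose W hxW hWV m hm using hloc
  obtain ⟨a, ha, -⟩ := TopCat.Sheaf.existsUnique_gluing' ⟨E.presheaf, E.isSheaf⟩ W V
    (fun x => homOfLE (hWV x)) (fun x hx => Opens.mem_iSup.mpr ⟨⟨x, hx⟩, hxW ⟨x, hx⟩⟩) m (by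
      intro i j
      refine injective_tm E L (hl.restrict ((inf_le_left : W i ⊓ W j ≤ W i).trans (hWV i))) ?_
      show tm (mres E inf_le_left (m i)) _ = tm (mres E inf_le_right (m j)) _
      have hi := congrArg (mres (CohB1.tensorMod E L) (inf_le_left : W i ⊓ W j ≤ W i)) (hm i)
      have hj := congrArg (mres (CohB1.tensorMod E L) (inf_le_right : W i ⊓ W j ≤ W j)) (hm j)
      rw [mres_tm, mres_mres, mres_mres] at hi hj
      exact hi.trans hj.symm)
  refine ⟨a, Ample.meq_of_cover _ W hWV (fun x hx => Opens.mem_iSup.mpr ⟨⟨x, hx⟩, hxW ⟨x, hx⟩⟩) fun k => ?_⟩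
  rw [mres_tm, ← hm k]
  exact congrArg (fun z => tm z (mres L (hWV k) l)) (ha k)

/-- Tensoring with a generator, as a linear equivalence on sections. -/
def tmEquiv {V : X.Opens} {l : Γ(L, V)} (hl : IsGen L V l) :
    Γ(E, V) ≃ₗ[Γ(X, V)] Γ(CohB1.tensorMod E L, V) :=
  LinearEquiv.ofBijective
    { toFun := fun a => tm a l
      map_add' := fun a b => tm_add_left a b l
      map_smul' := fun r a => tm_smul_left r a l } (bijective_tm E L hl)

theorem tmEquiv_apply {V : X.Opens} {l : Γ(L, V)} (hl : IsGen L V l) (a : Γ(E, V)) :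
    tmEquiv E L hl a = tm a l := rfl

/-- The `k`-th power of a section. -/
def pw {V : X.Opens} (l : Γ(L, V)) : (k : ℕ) → Γ(CohB1.tensorPow L k, V)
  | 0 => FinCov.one X V
  | k + 1 => tm (pw l k) l

theorem isGen_one (V : X.Opens) : IsGen (Coh.structureModule X) V (FinCov.one X V) := by
  intro W h
  have : (fun c : Γ(X, W) => c • mres (Coh.structureModule X) h (FinCov.one X V)) =
      fun c => (c : Γ(Coh.structureModule X, W)) := by
    funext c
    rw [show mres (Coh.structureModule X) h (FinCov.one X V) = FinCov.one X W from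
      map_one (X.presheaf.map (homOfLE h).op).hom]
    exact FinCov.smul_one W c
  rw [this]
  exact Function.bijective_id

theorem isGen_pw {V : X.Opens} {l : Γ(L, V)} (hl : IsGen L V l) : ∀ k, IsGen (CohB1.tensorPow L k) V (pw L l k)
  | 0 => isGen_one V
  | k + 1 => isGen_tm (isGen_pw hl k) hl

theorem mres_pw {V W : X.Opens} (h : W ≤ V) (l : Γ(L, V)) :
    ∀ k, mres (CohB1.tensorPow L k) h (pw L l k) = pw L (mres L h l) k
  | 0 => map_one (X.presheaf.map (homOfLE h).op).hom
  | k + 1 => (mres_tm h _ _).trans (congrArg (fun z => tm z (mres L h l)) (mres_pw h l k))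

theorem pw_smul {V : X.Opens} (c : Γ(X, V)) (l : Γ(L, V)) :
    ∀ k, pw L (c • l) k = c ^ k • pw L l k
  | 0 => by rw [pow_zero, one_smul]; rfl
  | k + 1 => by
    show tm (pw L (c • l) k) (c • l) = c ^ (k + 1) • tm (pw L l k) l
    rw [pw_smul c l k, tm_smul_left, tm_smul_right, smul_smul, pow_succ]

/-- The affine opens over which an invertible module has a generator form a basis. -/
theorem isBasis_gen (hL : PicF.IsInvertible L) :
    Opens.IsBasis (Set.range fun U : {U : X.affineOpens // ∃ l : Γ(L, U.1), IsGen L U.1 l} => U.1.1) := by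
  rw [Opens.isBasis_iff_nbhd]
  intro V x hx
  obtain ⟨W, l, hxW, hl⟩ := InvExt.exists_gen_nhd hL x
  obtain ⟨_, ⟨U, hU, rfl⟩, hxU, hle⟩ := X.isBasis_affineOpens.exists_subset_of_mem_open
    (show x ∈ ((V ⊓ W : X.Opens) : Set X) from ⟨hx, hxW⟩) (V ⊓ W : X.Opens).2
  have hle' : (U : X.Opens) ≤ V ⊓ W := hle
  exact ⟨U, ⟨⟨⟨U, hU⟩, _, hl.restrict (hle'.trans inf_le_right)⟩, rfl⟩, hxU, hle'.trans inf_le_left⟩

end GrothLib.TensorGen
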