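import Groth.Agent.Lib.TensorGen.Basic
import Groth.Agent.Lib.Euler.Rank
import Groth.Prelude.Def_ExtPow2
import Mathlib.LinearAlgebra.Determinant
import Mathlib.LinearAlgebra.Matrix.Kronecker

/-!
# Top exterior powers of free modules, frames of tensor products, generators of determinants
-/

set_option autoImplicit false
set_option backward.isDefEq.respectTransparency false
set_option linter.all false

universe u

open CategoryTheory CategoryTheory.Limits AlgebraicGeometry TopologicalSpace Opposite
open GrothLib.InvExt (mres fres IsGen mres_smul mres_mres fres_fres)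
open GrothLib.VA (tm tm_smul_left tm_smul_right mres_tm)
open GrothLib.FinCov (IsFrame)
open scoped TensorProduct

noncomputable section

namespace GrothLib.TensorGen

section Algebra

variable {R M : Type*} [CommRing R] [AddCommGroup M] [Module R M] {n : ℕ} (b : Module.Basis (Fin n) R M)

theorem ιMulti_eq_det_smul (v : Fin n → M) :
    exteriorPower.ιMulti R n v = b.det v • exteriorPower.ιMulti R n b := by
  have h : exteriorPower.ιMulti R n (M := M) =
      (LinearMap.toSpanSingleton R _ (exteriorPower.ιMulti R n b)).compAlternatingMap b.det := by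
    refine Module.Basis.ext_alternating b fun i hi => ?_
    let σ : Equiv.Perm (Fin n) := Equiv.ofBijective i (Finite.injective_iff_bijective.1 hi)
    show exteriorPower.ιMulti R n (b ∘ σ) = b.det (b ∘ σ) • exteriorPower.ιMulti R n b
    rw [AlternatingMap.map_perm, AlternatingMap.map_perm, Module.Basis.det_self]
    simp only [Units.smul_def, zsmul_one]
    exact (Int.cast_smul_eq_zsmul R _ _).symm
  exact DFunLike.congr_fun h v

/-- The top exterior power of a free module is free on the wedge of a basis. -/
theorem bijective_smul_ιMulti : Function.Bijective fun c : R => c • exteriorPower.ιMulti R n b := by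
  let δ : ↥(⋀[R]^n M) →ₗ[R] R := exteriorPower.alternatingMapLinearEquiv b.det
  have hδ : δ (exteriorPower.ιMulti R n b) = 1 := by
    rw [exteriorPower.alternatingMapLinearEquiv_apply_ιMulti, Module.Basis.det_self]
  refine ⟨fun c d h => ?_, fun x => ⟨δ x, ?_⟩⟩
  · have := congrArg δ h
    simpa [hδ] using this
  · have : (LinearMap.toSpanSingleton R _ (exteriorPower.ιMulti R n b)) ∘ₗ δ = LinearMap.id := by
      refine exteriorPower.linearMap_ext (AlternatingMap.ext fun v => ?_)
      show δ (exteriorPower.ιMulti R n v) • exteriorPower.ιMulti R n b = exteriorPower.ιMulti R n v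
      rw [exteriorPower.alternatingMapLinearEquiv_apply_ιMulti, ← ιMulti_eq_det_smul]
    exact LinearMap.congr_fun this x

end Algebra

variable {X : Scheme.{u}}

/-- A section generating over every affine open inside an open generates there. -/
theorem isGen_of_affine {M : X.Modules} {V : X.Opens} {e : Γ(M, V)}
    (h : ∀ (W : X.affineOpens) (hW : W.1 ≤ V), Function.Bijective fun c : Γ(X, W.1) => c • mres M hW e) :
    IsGen M V e := by
  intro W hW
  have hcov : ∀ T : X.Opens, T ≤ ⨆ A : {A : X.affineOpens // A.1 ≤ T}, A.1.1 := fun T x hx => by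
    obtain ⟨_, ⟨U, hU, rfl⟩, hxU, hle⟩ := X.isBasis_affineOpens.exists_subset_of_mem_open hx T.2
    exact Opens.mem_iSup.mpr ⟨⟨⟨U, hU⟩, hle⟩, hxU⟩
  have hinj : ∀ (T : X.Opens) (hT : T ≤ V) (c d : Γ(X, T)),
      c • mres M hT e = d • mres M hT e → c = d := fun T hT c d hcd => by
    refine X.sheaf.eq_of_locally_eq' (fun A : {A : X.affineOpens // A.1 ≤ T} => A.1.1) T
      (fun A => homOfLE A.2) (hcov T) c d fun A => ?_
    refine (h A.1 (A.2.trans hT)).1 ?_
    have := congrArg (mres M A.2) hcd
    simp only [mres_smul, mres_mres] at this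
    exact this
  refine ⟨fun c d => hinj W hW c d, fun m => ?_⟩
  choose c hc using fun A : {A : X.affineOpens // A.1 ≤ W} => (h A.1 (A.2.trans hW)).2 (mres M A.2 m)
  obtain ⟨g, hg, -⟩ := X.sheaf.existsUnique_gluing' (fun A : {A : X.affineOpens // A.1 ≤ W} => A.1.1) W
    (fun A => homOfLE A.2) (hcov W) c (fun i j => by
      refine hinj _ ((inf_le_left : i.1.1 ⊓ j.1.1 ≤ i.1.1).trans (i.2.trans hW)) _ _ ?_
      have hi := congrArg (mres M (inf_le_left : i.1.1 ⊓ j.1.1 ≤ i.1.1)) (hc i)
      have hj := congrArg (mres M (inf_le_right : i.1.1 ⊓ j.1.1 ≤ j.1.1)) (hc j)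
      simp only [mres_smul, mres_mres] at hi hj
      exact hi.trans hj.symm)
  refine ⟨g, Ample.meq_of_cover M (fun A : {A : X.affineOpens // A.1 ≤ W} => A.1.1) (fun A => A.2) (hcov W)
    fun A => ?_⟩
  dsimp only
  rw [mres_smul, mres_mres, ← hc A]
  exact congrArg (fun z => z • _) (hg A)

theorem isFrame_restrict {M : X.Modules} {V : X.Opens} {n : ℕ} {e : Fin n → Γ(M, V)} (he : IsFrame M V e)
    {W : X.Opens} (h : W ≤ V) : IsFrame M W fun i => mres M h (e i) := fun T hT => by
  show Function.Bijective fun c : Fin n → Γ(X, T) => ∑ i, c i • mres M hT (mres M h (e i))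
  simp only [mres_mres]
  exact he T (hT.trans h)

/-- A frame gives bases of stalks. -/
theorem bijective_stalk_of_frame {F : X.Modules} {D : X.Opens} {n : ℕ} {e : Fin n → Γ(F, D)}
    (he : IsFrame F D e) {x : X} (hx : x ∈ D) :
    Function.Bijective fun c : Fin n → X.presheaf.stalk x => ∑ i, c i • F.presheaf.germ D x hx (e i) := by
  have key : ∀ (T : X.Opens) (hT : T ≤ D) (hxT : x ∈ T) (c : Fin n → Γ(X, T)),
      ∑ i, X.presheaf.germ T x hxT (c i) • F.presheaf.germ D x hx (e i) =
        F.presheaf.germ T x hxT (∑ i, c i • F.presheaf.map (homOfLE hT).op (e i)) := by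
    intro T hT hxT c
    rw [Euler.germ_sum_smul]
    exact Finset.sum_congr rfl fun i _ => by rw [TopCat.Presheaf.germ_res_apply]
  constructor
  · intro a b hab
    choose U hU r hr using fun i => TopCat.Presheaf.exists_germ_eq X.presheaf (a i - b i)
    let T : X.Opens := ⟨(⋂ i, (U i : Set X)) ∩ D, (isOpen_iInter_of_finite fun i => (U i).isOpen).inter D.isOpen⟩
    have hT : T ≤ D := fun z hz => hz.2
    have hxT : x ∈ T := ⟨Set.mem_iInter.2 hU, hx⟩
    let c : Fin n → Γ(X, T) := fun i =>
      X.presheaf.map (homOfLE (fun z hz => Set.mem_iInter.1 hz.1 i : T ≤ U i)).op (r i)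
    have hc : ∀ i, X.presheaf.germ T x hxT (c i) = a i - b i := fun i => by
      rw [TopCat.Presheaf.germ_res_apply, hr]
    have h0 : F.presheaf.germ T x hxT (∑ i, c i • F.presheaf.map (homOfLE hT).op (e i)) =
        F.presheaf.germ T x hxT 0 := by
      rw [← key T hT hxT c, map_zero]
      simp only [hc, sub_smul, Finset.sum_sub_distrib]
      exact sub_eq_zero.mpr hab
    obtain ⟨W, hxW, i, i', heq⟩ := TopCat.Presheaf.germ_eq F.presheaf x hxT hxT _ 0 h0
    obtain rfl : i = i' := Subsingleton.elim _ _
    rw [map_zero, map_sum] at heq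
    have hW : W ≤ D := i.le.trans hT
    have h1 : (fun k => X.presheaf.map i.op (c k)) = 0 := (he W hW).1 (by
      simp only [Pi.zero_apply, zero_smul, Finset.sum_const_zero]
      rw [← heq]
      refine Finset.sum_congr rfl fun k _ => ?_
      rw [Scheme.Modules.map_smul, Cohom.map_map_apply])
    funext k
    rw [← sub_eq_zero, ← hc, ← TopCat.Presheaf.germ_res_apply X.presheaf i x hxW (c k), congrFun h1 k,
      Pi.zero_apply, map_zero]
  · intro v
    obtain ⟨U, hU, m, rfl⟩ := TopCat.Presheaf.exists_germ_eq F.presheaf v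
    obtain ⟨c, hc⟩ := (he (U ⊓ D) inf_le_right).2 (F.presheaf.map (homOfLE inf_le_left).op m)
    refine ⟨fun i => X.presheaf.germ (U ⊓ D) x ⟨hU, hx⟩ (c i), ?_⟩
    dsimp only
    rw [key _ inf_le_right ⟨hU, hx⟩ c]
    dsimp only at hc
    rw [hc, TopCat.Presheaf.germ_res_apply]

/-- The products of the sections of two frames form a frame of the tensor product. -/
theorem isFrame_tm {E F : X.Modules} {V : X.Opens} {m n : ℕ} {a : Fin m → Γ(E, V)} {b : Fin n → Γ(F, V)}
    (ha : IsFrame E V a) (hb : IsFrame F V b) :
    IsFrame (CohB1.tensorMod E F) V fun k => tm (a (finProdFinEquiv.symm k).1) (b (finProdFinEquiv.symm k).2) := by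
  refine Euler.isFrame_of_stalk_basis fun y hy => ?_
  let R := X.presheaf.stalk y
  let La := Fintype.linearCombination R fun i => E.presheaf.germ V y hy (a i)
  let Lb := Fintype.linearCombination R fun i => F.presheaf.germ V y hy (b i)
  let bA : Module.Basis (Fin m) R (E.presheaf.stalk y) :=
    Module.Basis.ofEquivFun (LinearEquiv.ofBijective La (bijective_stalk_of_frame ha hy)).symm
  let bB : Module.Basis (Fin n) R (F.presheaf.stalk y) :=
    Module.Basis.ofEquivFun (LinearEquiv.ofBijective Lb (bijective_stalk_of_frame hb hy)).symm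
  have hA : ∀ i, bA i = E.presheaf.germ V y hy (a i) := fun i => by
    classical
    simp only [bA, Module.Basis.coe_ofEquivFun, LinearEquiv.symm_symm]
    show La (Pi.single i 1) = _
    simp [La]
  have hB : ∀ i, bB i = F.presheaf.germ V y hy (b i) := fun i => by
    classical
    simp only [bB, Module.Basis.coe_ofEquivFun, LinearEquiv.symm_symm]
    show Lb (Pi.single i 1) = _
    simp [Lb]
  let P := ((bA.tensorProduct bB).map (Ref1.tensorStalk E F y).symm).reindex finProdFinEquiv
  have hP : ∀ k, P k = (CohB1.tensorMod E F).presheaf.germ V y hy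
      (tm (a (finProdFinEquiv.symm k).1) (b (finProdFinEquiv.symm k).2)) := fun k => by
    rw [Ref1.germ_tmul, Module.Basis.reindex_apply, Module.Basis.map_apply, Module.Basis.tensorProduct_apply',
      hA, hB]
    rfl
  have := P.equivFun.symm.bijective
  rw [show (⇑P.equivFun.symm : (Fin (m * n) → R) → _) = fun c => ∑ k, c k • P k from
    funext fun c => P.equivFun_symm_apply c] at this
  simp only [hP] at this
  exact this

theorem frame_expand {M : X.Modules} {V : X.Opens} {n : ℕ} {e : Fin n → Γ(M, V)} (he : IsFrame M V e)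
    (v : Γ(M, V)) : v = ∑ i, (he.basis V le_rfl).repr v i • e i := by
  conv_lhs => rw [← (he.basis V le_rfl).sum_repr v]
  refine Finset.sum_congr rfl fun i _ => ?_
  rw [FinCov.IsFrame.basis_apply]
  exact congrArg _ (InvExt.mres_self M (e i))

/-- The determinant of the products of two families with respect to the product frame. -/
theorem det_tm {E F : X.Modules} {V : X.Opens} {m n : ℕ} {a : Fin m → Γ(E, V)} {b : Fin n → Γ(F, V)}
    (ha : IsFrame E V a) (hb : IsFrame F V b) (v : Fin m → Γ(E, V)) (w : Fin n → Γ(F, V)) :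
    ((isFrame_tm ha hb).basis V le_rfl).det
        (fun k => tm (v (finProdFinEquiv.symm k).1) (w (finProdFinEquiv.symm k).2)) =
      (ha.basis V le_rfl).det v ^ n * (hb.basis V le_rfl).det w ^ m := by
  classical
  let A := (ha.basis V le_rfl).toMatrix v
  let B := (hb.basis V le_rfl).toMatrix w
  have key : ((isFrame_tm ha hb).basis V le_rfl).toMatrix
      (fun k => tm (v (finProdFinEquiv.symm k).1) (w (finProdFinEquiv.symm k).2)) =
      (Matrix.kroneckerMap (· * ·) A B).submatrix finProdFinEquiv.symm finProdFinEquiv.symm := by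
    ext k l
    rw [Module.Basis.toMatrix_apply, Matrix.submatrix_apply, Matrix.kroneckerMap_apply]
    let p : Fin (m * n) → Γ(X, V) := fun k =>
      A (finProdFinEquiv.symm k).1 (finProdFinEquiv.symm l).1 * B (finProdFinEquiv.symm k).2 (finProdFinEquiv.symm l).2
    have e : tm (v (finProdFinEquiv.symm l).1) (w (finProdFinEquiv.symm l).2) =
        ((isFrame_tm ha hb).basis V le_rfl).equivFun.symm p := by
      rw [Module.Basis.equivFun_symm_apply, Fintype.sum_equiv finProdFinEquiv.symm _
        (fun q => (A q.1 (finProdFinEquiv.symm l).1 * B q.2 (finProdFinEquiv.symm l).2) • tm (a q.1) (b q.2))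
        (fun k => by
          rw [FinCov.IsFrame.basis_apply]
          exact congrArg _ (InvExt.mres_self _ _)), Fintype.sum_prod_type]
      conv_lhs => rw [frame_expand ha (v (finProdFinEquiv.symm l).1), frame_expand hb (w (finProdFinEquiv.symm l).2)]
      let T : Γ(E, V) →ₗ[Γ(X, V)] Γ(F, V) →ₗ[Γ(X, V)] Γ(CohB1.tensorMod E F, V) :=
        LinearMap.mk₂ Γ(X, V) (fun s t => tm s t) (fun s s' t => VA.tm_add_left s s' t)
          (fun r s t => tm_smul_left r s t) (fun s t t' => VA.tm_add_right s t t')
          (fun r s t => tm_smul_right r s t)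
      show T _ _ = _
      simp only [map_sum, map_smul, LinearMap.sum_apply, LinearMap.smul_apply, Finset.smul_sum, smul_smul]
      rw [Finset.sum_comm]
      refine Finset.sum_congr rfl fun i _ => Finset.sum_congr rfl fun j _ => ?_
      rw [mul_comm]
      rfl
    rw [e, ← Module.Basis.equivFun_apply, LinearEquiv.apply_symm_apply]
  rw [Module.Basis.det_apply, key, Matrix.det_submatrix_equiv_self]
  refine (Matrix.det_kronecker A B).trans ?_
  rw [Fintype.card_fin, Fintype.card_fin]
  rfl

section ExtPow

variable {n : ℕ} {E DE : X.Modules}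
  {φ : ∀ U : X.affineOpens, Γ(DE, U.1) ≃ₗ[Γ(X, U.1)] ↥(⋀[Γ(X, U.1)]^n Γ(E, U.1))}
  (hφ : ∀ (U V : X.affineOpens) (h : V.1 ≤ U.1) (e : Fin n → Γ(E, U.1)),
    mres DE h ((φ U).symm (exteriorPower.ιMulti _ n e)) =
      (φ V).symm (exteriorPower.ιMulti _ n fun j => mres E h (e j)))

include hφ in
/-- The wedge of a frame generates the determinant. -/
theorem isGen_wedge {U : X.affineOpens} {e : Fin n → Γ(E, U.1)} (he : IsFrame E U.1 e) :
    IsGen DE U.1 ((φ U).symm (exteriorPower.ιMulti _ n e)) := by
  refine isGen_of_affine fun W hW => ?_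
  rw [hφ U W hW]
  have hb := (φ W).symm.bijective.comp (bijective_smul_ιMulti (he.basis W.1 hW))
  have : (fun c : Γ(X, W.1) => c • (φ W).symm (exteriorPower.ιMulti _ n fun j => mres E hW (e j))) =
      (φ W).symm ∘ fun c => c • exteriorPower.ιMulti Γ(X, W.1) n (he.basis W.1 hW) := by
    funext c
    rw [Function.comp_apply, map_smul]
    congr 3
    funext j
    exact (FinCov.IsFrame.basis_apply he W.1 hW j).symm
  rw [this]
  exact hb

include hφ in
/-- Change of frame for the wedge. -/
theorem mres_wedge {U V : X.affineOpens} (h : V.1 ≤ U.1) (e : Fin n → Γ(E, U.1)) {e' : Fin n → Γ(E, V.1)}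
    (he' : IsFrame E V.1 e') :
    mres DE h ((φ U).symm (exteriorPower.ιMulti _ n e)) =
      (he'.basis V.1 le_rfl).det (fun j => mres E h (e j)) • (φ V).symm (exteriorPower.ιMulti _ n e') := by
  rw [hφ U V h, ιMulti_eq_det_smul (he'.basis V.1 le_rfl), map_smul]
  congr 3
  funext j
  exact (FinCov.IsFrame.basis_apply he' V.1 le_rfl j).trans (InvExt.mres_self E (e' j))

end ExtPow

end GrothLib.TensorGen
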